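import Groth.Agent.MorLib.LimPro
import Groth.Agent.MorLib.BaseChangeLim
import Groth.Agent.RelSpecX.Spec

/-!
# The decomposed locus of a morphism of finite presentation, and limits

For `f₀ : X₀ ⟶ Y₀` and `p : Y' ⟶ Y₀` the decomposed locus consists of the points of `Y'` over which
`f₀` has a point with values in their residue field.
-/

set_option autoImplicit false
set_option linter.style.haveILetI false
set_option backward.isDefEq.respectTransparency false
attribute [-instance] CategoryTheory.catToReflQuiver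
universe u

namespace Groth.Agent.CDLim

open AlgebraicGeometry CategoryTheory Limits TopologicalSpace Topology

variable {X₀ Y₀ : Scheme.{u}} (f₀ : X₀ ⟶ Y₀)

/-- The decomposed locus. -/
def Dec {Y' : Scheme.{u}} (p : Y' ⟶ Y₀) : Set Y' :=
  {y | ∃ m : Spec (Y'.residueField y) ⟶ X₀, m ≫ f₀ = Y'.fromSpecResidueField y ≫ p}

/-- The decomposed locus pulls back into the decomposed locus. -/
theorem preimage_dec_subset {Y' Y'' : Scheme.{u}} (h : Y'' ⟶ Y') (p : Y' ⟶ Y₀) :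
    h ⁻¹' Dec f₀ p ⊆ Dec f₀ (h ≫ p) := by
  rintro y ⟨m, hm⟩
  refine ⟨Spec.map (h.residueFieldMap y) ≫ m, ?_⟩
  rw [Category.assoc, hm, ← Category.assoc, Scheme.Hom.SpecMap_residueFieldMap_fromSpecResidueField,
    Category.assoc]

/-- Evaluation at a point of an affine open is the residue field point. -/
theorem specMap_evaluation {Y' : Scheme.{u}} {V : Y'.Opens} (hV : IsAffineOpen V) {y : Y'} (hy : y ∈ V) :
    Spec.map (Y'.evaluation V y hy) ≫ hV.fromSpec = Y'.fromSpecResidueField y := by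
  rw [Scheme.evaluation, Spec.map_comp, Category.assoc, Scheme.fromSpecResidueField,
    ← hV.fromSpecStalk_eq_fromSpecStalk hy]
  rfl

/-- Sections near a point realise any element of the residue field. -/
theorem exists_affine_sections {Y' : Scheme.{u}} (U : Y'.Opens) {y : Y'} (hy : y ∈ U) {n : ℕ}
    (t : Fin n → Y'.residueField y) :
    ∃ (V : Y'.Opens) (_ : IsAffineOpen V) (hyV : y ∈ V), V ≤ U ∧
      ∃ a : Fin n → Γ(Y', V), ∀ k, Y'.evaluation V y hyV (a k) = t k := by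
  have h : ∀ k, ∃ (W : Y'.Opens) (hyW : y ∈ W), W ≤ U ∧ ∃ a : Γ(Y', W), Y'.evaluation W y hyW a = t k := by
    intro k
    obtain ⟨s, hs⟩ := Y'.residue_surjective y (t k)
    obtain ⟨W, hyW, a, rfl⟩ := Y'.presheaf.exists_germ_eq s
    refine ⟨W ⊓ U, ⟨hyW, hy⟩, inf_le_right, Y'.presheaf.map (homOfLE inf_le_left).op a, ?_⟩
    show Y'.residue y (Y'.presheaf.germ (W ⊓ U) y _ _) = _
    rw [Y'.presheaf.germ_res_apply]
    exact hs
  choose W hyW hWU a ha using h
  have hyI : y ∈ U ⊓ Finset.univ.inf W := by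
    refine ⟨hy, ?_⟩
    change y ∈ ((Finset.univ.inf W : Y'.Opens) : Set Y')
    rw [Opens.coe_finset_inf]
    simp only [Finset.inf_set_eq_iInter, Set.mem_iInter]
    exact fun k _ => hyW k
  obtain ⟨V, hV, hyV, hVI⟩ := exists_isAffineOpen_mem_and_subset hyI
  refine ⟨V, hV, hyV, fun x hx => (hVI hx).1,
    fun k => Y'.presheaf.map (homOfLE (show V ≤ W k from fun x hx =>
      (Finset.inf_le (f := W) (Finset.mem_univ k) : Finset.univ.inf W ≤ W k) (hVI hx).2)).op (a k), fun k => ?_⟩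
  show Y'.residue y (Y'.presheaf.germ V y _ _) = _
  rw [Y'.presheaf.germ_res_apply]
  exact ha k

variable {f₀}

/-- An affine chart of `f₀` with a finite presentation. -/
structure Chart (f₀ : X₀ ⟶ Y₀) where
  W₀ : Y₀.Opens
  hW₀ : IsAffineOpen W₀
  Wx : X₀.Opens
  hWx : IsAffineOpen Wx
  le : Wx ≤ f₀ ⁻¹ᵁ W₀
  n : ℕ
  g : MvPolynomial (Fin n) Γ(Y₀, W₀) →+* Γ(X₀, Wx)
  hgC : g.comp MvPolynomial.C = (f₀.appLE W₀ Wx le).hom
  hg : Function.Surjective g
  rels : Finset (MvPolynomial (Fin n) Γ(Y₀, W₀))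
  hrels : Ideal.span (rels : Set (MvPolynomial (Fin n) Γ(Y₀, W₀))) = RingHom.ker g

theorem exists_chart [LocallyOfFinitePresentation f₀] (x : X₀) : ∃ C : Chart f₀, x ∈ C.Wx := by
  obtain ⟨W₀, hW₀, hxW₀, -⟩ := exists_isAffineOpen_mem_and_subset (x := f₀ x) (U := ⊤) trivial
  obtain ⟨Wx, hWx, hx, hle⟩ := exists_isAffineOpen_mem_and_subset (x := x) (U := f₀ ⁻¹ᵁ W₀) hxW₀
  have hfp : (f₀.appLE W₀ Wx hle).hom.FinitePresentation :=
    HasRingHomProperty.appLE @LocallyOfFinitePresentation f₀ inferInstance ⟨W₀, hW₀⟩ ⟨Wx, hWx⟩ hle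
  letI := (f₀.appLE W₀ Wx hle).hom.toAlgebra
  haveI : Algebra.FinitePresentation Γ(Y₀, W₀) Γ(X₀, Wx) := hfp
  obtain ⟨n, g, hg, s, hs⟩ := (inferInstance : Algebra.FinitePresentation Γ(Y₀, W₀) Γ(X₀, Wx)).out
  exact ⟨⟨W₀, hW₀, Wx, hWx, hle, n, g.toRingHom, g.comp_algebraMap, hg, s, hs⟩, hx⟩

variable (C : Chart f₀) {Y' : Scheme.{u}} (p : Y' ⟶ Y₀) {V : Y'.Opens} (hle : V ≤ p ⁻¹ᵁ C.W₀)

/-- The sections obtained by substituting `a` in the relations. -/
noncomputable def subst (a : Fin C.n → Γ(Y', V)) : MvPolynomial (Fin C.n) Γ(Y₀, C.W₀) →+* Γ(Y', V) :=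
  MvPolynomial.eval₂Hom (p.appLE C.W₀ V hle).hom a

/-- A point at which the relations vanish is decomposed. -/
theorem mem_dec_of_relations (hV : IsAffineOpen V) (a : Fin C.n → Γ(Y', V)) {q : Y'} (hq : q ∈ V)
    (h : ∀ r ∈ C.rels, Y'.evaluation V q hq (subst C p hle a r) = 0) : q ∈ Dec f₀ p := by
  let ψ := (Y'.evaluation V q hq).hom.comp (subst C p hle a)
  have hker : RingHom.ker C.g ≤ RingHom.ker ψ := by
    rw [← C.hrels, Ideal.span_le]
    exact fun r hr => h r hr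
  let χ : Γ(X₀, C.Wx) ⟶ Y'.residueField q := CommRingCat.ofHom (C.g.liftOfSurjective C.hg ⟨ψ, hker⟩)
  have hχ : f₀.appLE C.W₀ C.Wx C.le ≫ χ = p.appLE C.W₀ V hle ≫ Y'.evaluation V q hq := by
    refine CommRingCat.hom_ext (RingHom.ext fun r => ?_)
    show C.g.liftOfSurjective C.hg ⟨ψ, hker⟩ ((f₀.appLE C.W₀ C.Wx C.le).hom r) = _
    rw [← C.hgC, RingHom.comp_apply, RingHom.liftOfRightInverse_comp_apply]
    simp [ψ, subst]
  refine ⟨Spec.map χ ≫ C.hWx.fromSpec, ?_⟩
  rw [Category.assoc, ← IsAffineOpen.SpecMap_appLE_fromSpec f₀ C.hW₀ C.hWx C.le, ← Category.assoc,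
    ← Spec.map_comp, hχ, Spec.map_comp, Category.assoc,
    IsAffineOpen.SpecMap_appLE_fromSpec p C.hW₀ hV hle, ← Category.assoc, specMap_evaluation hV hq]

/-- A decomposed point has such data. -/
theorem exists_relations [LocallyOfFinitePresentation f₀] {y : Y'} (hy : y ∈ Dec f₀ p) :
    ∃ C : Chart f₀, y ∈ p ⁻¹ᵁ C.W₀ ∧ ∃ t : Fin C.n → Y'.residueField y,
      ∀ (V : Y'.Opens), IsAffineOpen V → ∀ (hle : V ≤ p ⁻¹ᵁ C.W₀) (hyV : y ∈ V) (a : Fin C.n → Γ(Y', V)),
        (∀ k, Y'.evaluation V y hyV (a k) = t k) →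
          ∀ r ∈ C.rels, Y'.evaluation V y hyV (subst C p hle a r) = 0 := by
  obtain ⟨m, hm⟩ := hy
  let pt : Spec (Y'.residueField y) := IsLocalRing.closedPoint (Y'.residueField y)
  obtain ⟨C, hC⟩ := exists_chart (f₀ := f₀) (m pt)
  have hm1 : (⊤ : (Spec (Y'.residueField y)).Opens) ≤ m ⁻¹ᵁ C.Wx := fun x _ => by
    rw [show x = pt from Subsingleton.elim _ _]; exact hC
  have hyW : y ∈ p ⁻¹ᵁ C.W₀ := by
    show p y ∈ C.W₀
    have h1 : f₀ (m pt) ∈ C.W₀ := C.le hC
    rwa [← Scheme.Hom.comp_apply, hm, Scheme.Hom.comp_apply, Scheme.fromSpecResidueField_apply] at h1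
  let χ : Γ(X₀, C.Wx) ⟶ Y'.residueField y := m.appLE C.Wx ⊤ hm1 ≫ (Scheme.ΓSpecIso _).hom
  have hmχ : m = Spec.map χ ≫ C.hWx.fromSpec := RelSpecX.spec_hom_eq m C.hWx hm1
  refine ⟨C, hyW, fun k => χ (C.g (MvPolynomial.X k)), fun V hV hle hyV a ha r hr => ?_⟩
  have hχ : f₀.appLE C.W₀ C.Wx C.le ≫ χ = p.appLE C.W₀ V hle ≫ Y'.evaluation V y hyV := by
    apply Spec.map_injective
    rw [← cancel_mono C.hW₀.fromSpec, Spec.map_comp (f₀.appLE C.W₀ C.Wx C.le) χ,
      Spec.map_comp (p.appLE C.W₀ V hle) _, Category.assoc, Category.assoc,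
      IsAffineOpen.SpecMap_appLE_fromSpec f₀ C.hW₀ C.hWx C.le, ← Category.assoc, ← hmχ, hm,
      IsAffineOpen.SpecMap_appLE_fromSpec p C.hW₀ hV hle, ← Category.assoc, specMap_evaluation hV hyV]
  have he : (Y'.evaluation V y hyV).hom.comp (subst C p hle a) = χ.hom.comp C.g := by
    refine MvPolynomial.ringHom_ext (fun c => ?_) (fun k => ?_)
    · have := congrArg (fun φ => φ.hom c) hχ
      show Y'.evaluation V y hyV (subst C p hle a (MvPolynomial.C c)) = χ (C.g (MvPolynomial.C c))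
      rw [show C.g (MvPolynomial.C c) = (f₀.appLE C.W₀ C.Wx C.le).hom c from RingHom.congr_fun C.hgC c]
      simpa [subst] using this.symm
    · simp [subst, ha]
  have h0 : C.g r = 0 := by
    rw [← RingHom.mem_ker, ← C.hrels]; exact Ideal.subset_span hr
  exact (RingHom.congr_fun he r).trans (by rw [RingHom.comp_apply, h0, map_zero])

/-- The decomposed locus is ind-constructible. -/
theorem isIndConstructible_dec [LocallyOfFinitePresentation f₀] :
    ProCons.IsIndConstructible (Dec f₀ p) := by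
  intro y₀
  obtain ⟨U, hU, hy₀, -⟩ := exists_isAffineOpen_mem_and_subset (x := y₀) (U := (⊤ : Y'.Opens)) trivial
  haveI : QuasiSeparatedSpace ↥(U : Set Y') :=
    (isQuasiSeparated_iff_quasiSeparatedSpace (U : Set Y') U.2).mp hU.isQuasiSeparated
  haveI : CompactSpace ↥(U : Set Y') := isCompact_iff_compactSpace.mp hU.isCompact
  refine ⟨U, U.2, hy₀, {T | IsLocallyConstructible T ∧ T ⊆ Subtype.val ⁻¹' Dec f₀ p}, fun T hT => hT.1, ?_⟩
  refine Set.Subset.antisymm ?_ (Set.sUnion_subset fun T hT => hT.2)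
  rintro ⟨y, hyU⟩ hy
  obtain ⟨C, hyW, t, ht⟩ := exists_relations p hy
  obtain ⟨V, hV, hyV, hVU, a, ha⟩ := exists_affine_sections (U ⊓ p ⁻¹ᵁ C.W₀) ⟨hyU, hyW⟩ t
  have hle : V ≤ p ⁻¹ᵁ C.W₀ := fun x hx => (hVU hx).2
  let e : MvPolynomial (Fin C.n) Γ(Y₀, C.W₀) → Y'.Opens := fun r => Y'.basicOpen (subst C p hle a r)
  let T : Set ↥(U : Set Y') := Subtype.val ⁻¹' ((V : Set Y') \ ⋃ r ∈ C.rels, (e r : Set Y'))
  have hcpt : ∀ W : Y'.Opens, IsAffineOpen W → W ≤ U →
      IsConstructible (Subtype.val ⁻¹' (W : Set Y') : Set ↥(U : Set Y')) := fun W hW hWU => by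
    refine IsCompact.isConstructible ?_ (W.2.preimage continuous_subtype_val)
    rw [IsEmbedding.subtypeVal.isCompact_iff, Subtype.image_preimage_coe, Set.inter_eq_right.2 hWU]
    exact hW.isCompact
  have hTc : IsLocallyConstructible T := by
    refine IsConstructible.isLocallyConstructible ?_
    simp only [T, Set.preimage_diff, Set.preimage_iUnion]
    refine (hcpt V hV fun x hx => (hVU hx).1).sdiff ?_
    refine IsConstructible.biUnion C.rels.finite_toSet fun r _ => ?_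
    exact hcpt _ (hV.basicOpen _) fun x hx => (hVU (Y'.basicOpen_le _ hx)).1
  refine Set.mem_sUnion.2 ⟨T, ⟨hTc, fun q hq => ?_⟩, ⟨hyV, ?_⟩⟩
  · refine mem_dec_of_relations C p hle hV a hq.1 fun r hr => ?_
    rw [Scheme.evaluation_eq_zero_iff_notMem_basicOpen]
    exact fun h => hq.2 (Set.mem_biUnion hr h)
  · rw [Set.mem_iUnion₂]
    rintro ⟨r, hr, hr'⟩
    exact (Scheme.evaluation_eq_zero_iff_notMem_basicOpen Y' y hyV _).1 (ht V hV hle hyV a ha r hr) hr'

/-- A decomposed point of a limit is decomposed at a stage. -/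
theorem exists_stage [LocallyOfFinitePresentation f₀] {J : Type u} [SmallCategory J] [IsCofiltered J]
    {E : J ⥤ Scheme.{u}} {cE : Cone E} (hcE : IsLimit cE) [∀ {i j : J} (g : i ⟶ j), IsAffineHom (E.map g)]
    (pj : E ⟶ (Functor.const J).obj Y₀) (pY : cE.pt ⟶ Y₀) (hp : ∀ j, cE.π.app j ≫ pj.app j = pY)
    {y : cE.pt} (hy : y ∈ Dec f₀ pY) : ∃ j, cE.π.app j y ∈ Dec f₀ (pj.app j) := by
  classical
  obtain ⟨C, hyW, t, ht⟩ := exists_relations pY hy
  obtain ⟨V, hV, hyV, hVW, a, ha⟩ := exists_affine_sections (pY ⁻¹ᵁ C.W₀) hyW t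
  obtain ⟨_, ⟨i, W, hW, rfl⟩, hyW', hWV⟩ :=
    Opens.isBasis_iff_nbhd.mp (isBasis_preimage_isAffineOpen E cE hcE) hyV
  have hyi : cE.π.app i y ∈ pj.app i ⁻¹ᵁ C.W₀ := by
    show pj.app i (cE.π.app i y) ∈ C.W₀
    rw [← Scheme.Hom.comp_apply, hp]; exact hyW
  obtain ⟨W', hW', hyW'', hW'le⟩ := exists_isAffineOpen_mem_and_subset (x := cE.π.app i y)
    (U := W ⊓ pj.app i ⁻¹ᵁ C.W₀) ⟨hyW', hyi⟩
  haveI : ∀ k, IsAffine ((opensDiagram E i W').obj k) := fun k => hW'.preimage (E.map k.hom)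
  haveI : IsAffine (opensCone E cE i W').pt := by
    haveI := isAffineHom_π_app E cE hcE i
    exact hW'.preimage (cE.π.app i)
  have hsub : cE.π.app i ⁻¹ᵁ W' ≤ V := fun x hx => hWV (hW'le hx).1
  haveI : ∀ {u v : Over i} (g : u ⟶ v), IsAffineHom ((opensDiagram E i W').map g) := fun g => inferInstance
  have hk : ∀ k : Fin C.n, ∃ (m : Over i) (b : Γ(E.obj m.left, E.map m.hom ⁻¹ᵁ W')),
      (cE.π.app m.left).appLE (E.map m.hom ⁻¹ᵁ W') (cE.π.app i ⁻¹ᵁ W')
        (by rw [← Scheme.Hom.comp_preimage, cE.w]) b = cE.pt.presheaf.map (homOfLE hsub).op (a k) := by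
    intro k
    obtain ⟨m, b, hb⟩ := exists_appTop_π_eq_of_isAffine_of_isLimit (opensDiagram E i W')
      (opensCone E cE i W') (isLimitOpensCone E cE hcE i W')
      ((cE.π.app i ⁻¹ᵁ W').topIso.inv (cE.pt.presheaf.map (homOfLE hsub).op (a k)))
    refine ⟨m, (E.map m.hom ⁻¹ᵁ W').topIso.hom b, ?_⟩
    have hle' : cE.π.app i ⁻¹ᵁ W' ≤ cE.π.app m.left ⁻¹ᵁ (E.map m.hom ⁻¹ᵁ W') := by
      rw [← Scheme.Hom.comp_preimage, cE.w]
    have h : ((cE.π.app m.left).resLE _ _ hle').appTop ≫ (cE.π.app i ⁻¹ᵁ W').topIso.hom =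
        (E.map m.hom ⁻¹ᵁ W').topIso.hom ≫ (cE.π.app m.left).appLE _ _ hle' := by
      simp [Scheme.Hom.appTop, Scheme.Hom.app_eq_appLE, Scheme.Hom.resLE_appLE, Scheme.Opens.topIso]
    have hb' := congrArg (cE.π.app i ⁻¹ᵁ W').topIso.hom hb
    refine Eq.trans ((ConcreteCategory.congr_hom h b).symm.trans hb') ?_
    exact ConcreteCategory.congr_hom (cE.π.app i ⁻¹ᵁ W').topIso.inv_hom_id _
  choose m b hb using hk
  obtain ⟨l, hl⟩ := IsCofiltered.inf_objs_exists (insert (Over.mk (𝟙 i)) (Finset.univ.image m))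
  have g : ∀ k, l ⟶ m k := fun k =>
    (hl (Finset.mem_insert_of_mem (Finset.mem_image_of_mem m (Finset.mem_univ k)))).some
  let a' : Fin C.n → Γ(E.obj l.left, E.map l.hom ⁻¹ᵁ W') := fun k =>
    (E.map (g k).left).appLE _ _ (by rw [← Scheme.Hom.comp_preimage, ← E.map_comp, Over.w]) (b k)
  have hyl : cE.π.app l.left y ∈ E.map l.hom ⁻¹ᵁ W' := by
    show E.map l.hom (cE.π.app l.left y) ∈ W'
    rw [← Scheme.Hom.comp_apply, cE.w]; exact hyW''
  have hlle : E.map l.hom ⁻¹ᵁ W' ≤ pj.app l.left ⁻¹ᵁ C.W₀ := by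
    refine ((E.map l.hom).preimage_mono (fun x hx => (hW'le hx).2)).trans ?_
    rw [← Scheme.Hom.comp_preimage, pj.naturality]
    exact le_of_eq rfl
  have hπ : cE.π.app i ⁻¹ᵁ W' ≤ cE.π.app l.left ⁻¹ᵁ (E.map l.hom ⁻¹ᵁ W') := by
    rw [← Scheme.Hom.comp_preimage, cE.w]
  have hW'Y : cE.π.app i ⁻¹ᵁ W' ≤ pY ⁻¹ᵁ C.W₀ := fun x hx => hVW (hsub hx)
  let aY : Fin C.n → Γ(cE.pt, cE.π.app i ⁻¹ᵁ W') := fun k => cE.pt.presheaf.map (homOfLE hsub).op (a k)
  have ha' : ∀ k, (cE.π.app l.left).appLE _ _ hπ (a' k) = aY k := fun k => by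
    rw [← ConcreteCategory.comp_apply, Scheme.Hom.appLE_comp_appLE]
    simp only [cE.w]
    exact hb k
  haveI := isAffineHom_π_app E cE hcE i
  have haY : ∀ k, cE.pt.evaluation (cE.π.app i ⁻¹ᵁ W') y hyW'' (aY k) = t k := fun k => by
    show cE.pt.residue y (cE.pt.presheaf.germ _ y hyW'' _) = _
    rw [cE.pt.presheaf.germ_res_apply]
    exact ha k
  refine ⟨l.left, mem_dec_of_relations C (pj.app l.left) hlle (hW'.preimage (E.map l.hom)) a' hyl fun r hr => ?_⟩
  refine ((cE.π.app l.left).residueFieldMap y).hom.injective ?_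
  rw [map_zero, Scheme.evaluation_naturality_apply]
  have he : (cE.π.app l.left).appLE _ _ hπ (subst C (pj.app l.left) hlle a' r) = subst C pY hW'Y aY r := by
    refine RingHom.congr_fun (f := ((cE.π.app l.left).appLE _ _ hπ).hom.comp
      (subst C (pj.app l.left) hlle a')) ?_ r
    refine MvPolynomial.ringHom_ext (fun c => ?_) (fun k => ?_)
    · simp only [subst, RingHom.comp_apply, MvPolynomial.eval₂Hom_C]
      rw [← ConcreteCategory.comp_apply, Scheme.Hom.appLE_comp_appLE]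
      simp only [hp]
      exact (MvPolynomial.eval₂Hom_C _ _ c).symm
    · simp only [subst, RingHom.comp_apply, MvPolynomial.eval₂Hom_X']
      exact (ha' k).trans (MvPolynomial.eval₂Hom_X' _ _ k).symm
  have h0 := ht _ (hW'.preimage (cE.π.app i)) hW'Y hyW'' aY haY r hr
  rw [← he] at h0
  refine Eq.trans ?_ h0
  show cE.pt.residue y (cE.pt.presheaf.germ _ y _ _) = cE.pt.residue y (cE.pt.presheaf.germ _ y _ _)
  rw [Scheme.Hom.appLE, ConcreteCategory.comp_apply]
  exact congrArg (cE.pt.residue y) (cE.pt.presheaf.germ_res_apply (homOfLE hπ) y hyW'' _).symm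

end Groth.Agent.CDLim

namespace Groth.Agent.CDLim

open AlgebraicGeometry CategoryTheory Limits

theorem surjective_residueFieldMap_aux {K : Type u} [Field K] {P Q : Scheme.{u}} (g : P ⟶ Q) {y : Q}
    (φ : Q.residueField y ⟶ CommRingCat.of K) (hφ : Function.Surjective φ)
    (m : Spec (CommRingCat.of K) ⟶ P) (hm : m ≫ g = Spec.map φ ≫ Q.fromSpecResidueField y) :
    Function.Surjective (g.residueFieldMap (m (IsLocalRing.closedPoint K))) := by
  let ψ : P.residueField (m (IsLocalRing.closedPoint K)) ⟶ CommRingCat.of K :=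
    Scheme.descResidueField (Scheme.stalkClosedPointTo m)
  have hψ : Spec.map ψ ≫ P.fromSpecResidueField _ = m :=
    Scheme.descResidueField_stalkClosedPointTo_fromSpecResidueField _ _ _
  have hx : g (m (IsLocalRing.closedPoint K)) = y := by
    rw [← Scheme.Hom.comp_apply, hm, Scheme.Hom.comp_apply, Scheme.fromSpecResidueField_apply]
  have key : (Q.residueFieldCongr hx).inv ≫ g.residueFieldMap _ ≫ ψ = φ := by
    apply Spec.map_injective
    rw [← cancel_mono (Q.fromSpecResidueField y), Spec.map_comp, Spec.map_comp, Category.assoc, Category.assoc,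
      Scheme.residueFieldCongr_inv, Scheme.residueFieldCongr_fromSpecResidueField,
      Scheme.Hom.SpecMap_residueFieldMap_fromSpecResidueField, ← Category.assoc, hψ, hm]
  intro b
  obtain ⟨c, hc⟩ := hφ (ψ b)
  refine ⟨(Q.residueFieldCongr hx).inv c, ψ.hom.injective ?_⟩
  exact (ConcreteCategory.congr_hom key c).trans hc

/-- A lift of a residue field point gives a point with the same residue field. -/
theorem bijective_residueFieldMap_of_lift {P Q : Scheme.{u}} (g : P ⟶ Q) {y : Q}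
    (m : Spec (Q.residueField y) ⟶ P) (hm : m ≫ g = Q.fromSpecResidueField y) :
    Function.Bijective (g.residueFieldMap (m (IsLocalRing.closedPoint (Q.residueField y)))) :=
  ⟨(g.residueFieldMap _).hom.injective,
    surjective_residueFieldMap_aux (K := Q.residueField y) g (𝟙 (Q.residueField y)) (fun b => ⟨b, rfl⟩) m
      (by rw [hm]; exact ((congrArg (· ≫ Q.fromSpecResidueField y) (Spec.map_id _)).trans (Category.id_comp _)).symm)⟩

end Groth.Agent.CDLim
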